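import Groth.Agent.CosecExt.Main
import Groth.Agent.ResDiagLib.Main

/-!
# A criterion for the resolution property in terms of cosections of bundles
-/

set_option autoImplicit false
set_option backward.isDefEq.respectTransparency false
set_option linter.style.haveILetI false
universe u

open CategoryTheory CategoryTheory.Limits AlgebraicGeometry TopologicalSpace Opposite
open Groth.Agent.PullbackMod Groth.Agent.DCohLib Groth.Agent.CohBase

noncomputable section

namespace Groth.Agent.CosecExt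

variable {X : Scheme.{u}}

/-- A bundle with a cosection whose non-vanishing locus is `U`. -/
structure Cosec (U : X.Opens) where
  /-- The bundle. -/
  E : X.Modules
  /-- The cosection. -/
  u : E ⟶ Coh.structureModule X
  flf : FlatMod.IsFinLocFree E
  mem : ∀ x ∈ U, ∃ (W : X.Opens) (e : Γ(E, W)), x ∈ X.basicOpen (uL u W e)
  le : ∀ (W : X.Opens) (e : Γ(E, W)), X.basicOpen (uL u W e) ≤ U

theorem exists_one {U : X.Opens} (hU : IsAffineOpen U) (c : Cosec U) :
    ∃ e : Γ(c.E, U), uL c.u U e = 1 := by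
  haveI : Coh.IsQCoh c.E := (isQCoh_and_isFP_of_isFinLocFree c.E c.flf).1
  let E := c.E
  have htop : LinearMap.range (uL c.u U) = (⊤ : Ideal Γ(X, U)) := by
    by_contra hne
    obtain ⟨P, hP, hle⟩ := Ideal.exists_le_maximal _ hne
    let y : PrimeSpectrum Γ(X, U) := ⟨P, hP.isPrime⟩
    have hyU : hU.fromSpec y ∈ U := by
      have : hU.fromSpec y ∈ Set.range hU.fromSpec := ⟨y, rfl⟩
      rwa [hU.range_fromSpec] at this
    have hall : ∀ r ∈ LinearMap.range (uL c.u U), ¬ hU.fromSpec y ∈ X.basicOpen r := fun r hr h => by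
      have h' : y ∈ hU.fromSpec ⁻¹ᵁ X.basicOpen r := h
      rw [hU.fromSpec_preimage_basicOpen] at h'
      exact h' (hle hr)
    set x := hU.fromSpec y
    obtain ⟨W, e, hxe⟩ := c.mem x hyU
    obtain ⟨f, hfle, hxf⟩ := hU.exists_basicOpen_le (V := U ⊓ W) ⟨x, hyU, X.basicOpen_le _ hxe⟩ hyU
    obtain ⟨n, σ, hσ⟩ := (QCohLib.locAt E hU).extend f
      (E.presheaf.map (homOfLE (le_trans hfle inf_le_right : X.basicOpen f ≤ W)).op e)
    rw [sc_apply] at hσ
    refine hall _ ⟨σ, rfl⟩ ?_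
    have h2 := congrArg (uL c.u (X.basicOpen f)) hσ
    rw [map_smul] at h2
    have n1 : uL c.u (X.basicOpen f) (E.presheaf.map (homOfLE (X.basicOpen_le f)).op σ) =
        X.presheaf.map (homOfLE (X.basicOpen_le f)).op (uL c.u U σ) :=
      ConcreteCategory.congr_hom (c.u.mapPresheaf.naturality (homOfLE (X.basicOpen_le f)).op) σ
    have n2 : uL c.u (X.basicOpen f) (E.presheaf.map (homOfLE (le_trans hfle inf_le_right : X.basicOpen f ≤ W)).op e) =
        X.presheaf.map (homOfLE (le_trans hfle inf_le_right : X.basicOpen f ≤ W)).op (uL c.u W e) :=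
      ConcreteCategory.congr_hom (c.u.mapPresheaf.naturality (homOfLE (le_trans hfle inf_le_right : X.basicOpen f ≤ W)).op) e
    rw [n1, n2, smul_eq_mul] at h2
    have h3 := congrArg X.basicOpen h2
    simp only [Scheme.basicOpen_mul, Scheme.basicOpen_res] at h3
    have hx3 : x ∈ X.basicOpen f ⊓ X.basicOpen (uL c.u U σ) := by
      rw [h3]
      refine ⟨⟨hxf, (X.mem_basicOpen _ x hyU).2 ?_⟩, hxf, hxe⟩
      rw [map_pow]
      exact ((X.mem_basicOpen f x hyU).1 hxf).pow n
    exact hx3.2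
  exact LinearMap.mem_range.1 (htop.ge (Submodule.mem_top (x := (1 : Γ(X, U)))))

theorem hasResolutionProperty [CompactSpace X] [QuasiSeparatedSpace X] {κ : Type*} (U : κ → X.Opens)
    (hU : ∀ j, IsAffineOpen (U j)) (hcov : ⨆ j, U j = ⊤) (c : ∀ j, Cosec (U j)) :
    PerfAux.HasResolutionProperty X := by
  classical
  intro M hM hM'
  haveI := hM
  have hcov' : (Set.univ : Set X) ⊆ ⋃ j, (U j : Set X) := fun x _ => by
    obtain ⟨j, hj⟩ := Opens.mem_iSup.1 (hcov.ge (Opens.mem_top x))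
    exact Set.mem_iUnion.2 ⟨j, hj⟩
  obtain ⟨T, hT⟩ := isCompact_univ.elim_finite_subcover (fun j => (U j : Set X)) (fun j => (U j).2) hcov'
  choose S hS using fun t : T => (QCohLib.finite_sections M hM' (hU t.1)).fg_top
  choose e₀ he₀ using fun t : T => exists_one (hU t.1) (c t.1)
  choose F φ hF m hm using fun p : Σ t : T, S t =>
    @exists_map_through X (c p.1.1).E M (isQCoh_and_isFP_of_isFinLocFree _ (c p.1.1).flf).1 hM
      (c p.1.1).u _ _ (c p.1.1).flf (U p.1.1) (hU p.1.1) (e₀ p.1) (he₀ p.1) (c p.1.1).le p.2.1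
  let ε := Fintype.equivFin (Σ t : T, S t)
  refine ⟨∐ fun k => F (ε.symm k), Sigma.desc fun k => φ (ε.symm k),
    ResPropLib.isFinLocFree_sigma _ _ fun k => hF _, (epi_iff_stalk _).2 fun x => ?_⟩
  rw [← LinearMap.range_eq_top]
  obtain ⟨j, hj, hxj⟩ := Set.mem_iUnion₂.mp (hT (Set.mem_univ x))
  let t : T := ⟨j, hj⟩
  refine eq_top_iff.2 ((ResPropLib.span_germ_eq_top M (hU t.1) hxj _ (hS t)).ge.trans (Submodule.span_le.2 ?_))
  rintro _ ⟨s, hs, rfl⟩
  obtain ⟨k, hk⟩ := ε.symm.surjective ⟨t, ⟨s, hs⟩⟩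
  refine ResPropLib.range_stalkLin_le (fun k => φ (ε.symm k)) k x ?_
  rw [hk]
  refine ⟨(F ⟨t, ⟨s, hs⟩⟩).presheaf.germ (U t.1) x hxj (m ⟨t, ⟨s, hs⟩⟩), ?_⟩
  rw [stalkLin_germ]
  exact congrArg (M.presheaf.germ (U t.1) x hxj) (hm ⟨t, ⟨s, hs⟩⟩)

/-- On a scheme with the resolution property every quasi-compact open is the locus of a cosection. -/
theorem exists_cosec [CompactSpace X] [QuasiSeparatedSpace X] (hX : PerfAux.HasResolutionProperty X)
    (U : X.Opens) (hU : IsCompact (U : Set X)) : Nonempty (Cosec U) := by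
  obtain ⟨E, u, hE, h1, h2⟩ := ResDiagLib.exists_cosection hX U hU
  exact ⟨⟨E, u, hE, h1, h2⟩⟩

end Groth.Agent.CosecExt
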