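import Groth.Agent.CosecExt.Criterion
import Groth.Agent.DCohMore.FinPushRes

/-!
# Bundles surjecting on ideals and cosections
-/

set_option autoImplicit false
set_option backward.isDefEq.respectTransparency false
set_option linter.style.haveILetI false
universe u

open CategoryTheory CategoryTheory.Limits AlgebraicGeometry TopologicalSpace Opposite
open Groth.Agent.PullbackMod Groth.Agent.DCohLib Groth.Agent.CohBase

noncomputable section

namespace Groth.Agent.CosecExt

variable {X : Scheme.{u}}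

theorem cosec_of_epi {U : X.Opens} (I : X.IdealSheafData) (hs : (I.support : Set X) = (U : Set X)ᶜ)
    {E : X.Modules} (π : E ⟶ ClSub.idealMod I) [Epi π] (hE : FlatMod.IsFinLocFree E) :
    Nonempty (Cosec U) := by
  have hM : Coh.IsQCoh (ClSub.idealMod I) := OmegaAffLib.isQCoh_idealMod (K := I)
  refine ⟨⟨E, π ≫ ClSub.idealModι I, hE, fun x hx => ?_, fun V e => ?_⟩⟩
  · obtain ⟨_, ⟨W : X.Opens, hW, rfl⟩, hxW, -⟩ :=
      X.isBasis_affineOpens.exists_subset_of_mem_open (Set.mem_univ x) isOpen_univ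
    have hxs : x ∉ (I.support : Set X) := by rw [hs]; exact fun h => h hx
    obtain ⟨r, hr, hxr⟩ : ∃ r ∈ I.ideal ⟨W, hW⟩, x ∈ X.basicOpen r := by
      by_contra hcon
      push Not at hcon
      refine hxs ((I.mem_support_iff_of_mem (U := ⟨W, hW⟩) hxW).2 ?_)
      rw [Scheme.mem_zeroLocus_iff]
      exact fun r hr => hcon r hr
    obtain ⟨m, rfl⟩ := (OmegaAffLib.mem_range_idealSect I ⟨W, hW⟩ r).1 hr
    obtain ⟨e, rfl⟩ := DCohMore.surjective_app_epi (isQCoh_and_isFP_of_isFinLocFree E hE).1 hM π hW m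
    exact ⟨W, e, hxr⟩
  · intro x hx
    by_contra hxU
    have hxV : x ∈ V := X.basicOpen_le _ hx
    let g : Γ(ClSub.idealMod I, V) := π.app V e
    obtain ⟨_, ⟨V₀ : X.Opens, hV₀, rfl⟩, hxV₀, hle⟩ :=
      X.isBasis_affineOpens.exists_subset_of_mem_open (u := (V : Set X)) hxV V.2
    have hmem : OmegaSh.idealSect I V₀ ((ClSub.idealMod I).presheaf.map (homOfLE hle).op g) ∈ I.ideal ⟨V₀, hV₀⟩ :=
      (OmegaAffLib.mem_range_idealSect I ⟨V₀, hV₀⟩ _).2 ⟨_, rfl⟩
    have hsup : x ∈ I.support := by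
      show x ∈ (I.support : Set X)
      rw [hs]; exact hxU
    have h2 := (Scheme.mem_zeroLocus_iff ..).1 ((I.mem_support_iff_of_mem (U := ⟨V₀, hV₀⟩) hxV₀).1 hsup) _ hmem
    refine h2 ?_
    rw [show OmegaSh.idealSect I V₀ ((ClSub.idealMod I).presheaf.map (homOfLE hle).op g) =
      X.presheaf.map (homOfLE hle).op (uL (π ≫ ClSub.idealModι I) V e) from
      ConcreteCategory.congr_hom ((ClSub.idealModι I).mapPresheaf.naturality (homOfLE hle).op) g,
      Scheme.basicOpen_res]
    exact ⟨hxV₀, hx⟩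

/-- The locus of a cosection meets an affine open in a quasi-compact open. -/
theorem isCompact_inf {U V : X.Opens} (hV : IsAffineOpen V) (c : Cosec U) :
    IsCompact ((U : Set X) ∩ V) := by
  classical
  haveI : Coh.IsQCoh c.E := (isQCoh_and_isFP_of_isFinLocFree c.E c.flf).1
  haveI : SheafOfModules.IsFinitePresentation (R := X.ringCatSheaf) c.E :=
    (isQCoh_and_isFP_of_isFinLocFree c.E c.flf).2
  obtain ⟨S, hS⟩ := (QCohLib.finite_sections c.E
    (show SheafOfModules.IsFiniteType (R := X.ringCatSheaf) c.E from inferInstance) hV).fg_top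
  have key : (U : Set X) ∩ V = ⋃ e ∈ (S : Set Γ(c.E, V)), (X.basicOpen (uL c.u V e) : Set X) := by
    refine subset_antisymm (fun x hx => ?_) (Set.iUnion₂_subset fun e _ x hx => ⟨c.le V e hx, X.basicOpen_le _ hx⟩)
    obtain ⟨hxU, hxV⟩ := hx
    by_contra hno
    simp only [Set.mem_iUnion, exists_prop, not_exists, not_and, SetLike.mem_coe] at hno
    obtain ⟨W, e, hxe⟩ := c.mem x hxU
    obtain ⟨f, hfle, hxf⟩ := hV.exists_basicOpen_le (V := V ⊓ W) ⟨x, hxV, X.basicOpen_le _ hxe⟩ hxV
    obtain ⟨n, σ, hσ⟩ := (QCohLib.locAt c.E hV).extend f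
      (c.E.presheaf.map (homOfLE (le_trans hfle inf_le_right : X.basicOpen f ≤ W)).op e)
    rw [sc_apply] at hσ
    have hall : ∀ t : Γ(c.E, V), x ∉ X.basicOpen (uL c.u V t) := by
      intro t hxt
      have ht : t ∈ Submodule.span Γ(X, V) (S : Set Γ(c.E, V)) := hS ▸ Submodule.mem_top
      induction ht using Submodule.span_induction with
      | mem y hy => exact hno y hy hxt
      | zero => rw [map_zero, Scheme.basicOpen_zero] at hxt; exact hxt
      | add y y' _ _ hy hy' =>
        rw [X.mem_basicOpen _ x hxV] at hxt hy hy'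
        rw [map_add, map_add] at hxt
        exact (IsLocalRing.isUnit_or_isUnit_of_isUnit_add hxt).elim hy hy'
      | smul r y _ hy =>
        rw [map_smul, smul_eq_mul, Scheme.basicOpen_mul] at hxt
        exact hy hxt.2
    refine hall σ ?_
    have h2 := congrArg (uL c.u (X.basicOpen f)) hσ
    rw [map_smul] at h2
    have n1 : uL c.u (X.basicOpen f) (c.E.presheaf.map (homOfLE (X.basicOpen_le f)).op σ) =
        X.presheaf.map (homOfLE (X.basicOpen_le f)).op (uL c.u V σ) :=
      ConcreteCategory.congr_hom (c.u.mapPresheaf.naturality (homOfLE (X.basicOpen_le f)).op) σ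
    have n2 : uL c.u (X.basicOpen f) (c.E.presheaf.map (homOfLE (le_trans hfle inf_le_right : X.basicOpen f ≤ W)).op e) =
        X.presheaf.map (homOfLE (le_trans hfle inf_le_right : X.basicOpen f ≤ W)).op (uL c.u W e) :=
      ConcreteCategory.congr_hom (c.u.mapPresheaf.naturality (homOfLE (le_trans hfle inf_le_right : X.basicOpen f ≤ W)).op) e
    rw [n1, n2, smul_eq_mul] at h2
    have h3 := congrArg X.basicOpen h2
    simp only [Scheme.basicOpen_mul, Scheme.basicOpen_res] at h3
    have hx3 : x ∈ X.basicOpen f ⊓ X.basicOpen (uL c.u V σ) := by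
      rw [h3]
      refine ⟨⟨hxf, (X.mem_basicOpen _ x hxV).2 ?_⟩, hxf, hxe⟩
      rw [map_pow]
      exact ((X.mem_basicOpen f x hxV).1 hxf).pow n
    exact hx3.2
  rw [key]
  exact S.finite_toSet.isCompact_biUnion fun e _ => (hV.basicOpen _).isCompact

theorem resolutionProperty_iff {m : ℕ} (U : Fin m → X.Opens) (hU : ∀ j, IsAffineOpen (U j))
    (hcov : ⨆ j, U j = ⊤) (I : Fin m → X.IdealSheafData)
    (hft : ∀ j, CohB1.IsFT (ClSub.idealMod (I j)))
    (hs : ∀ j, ((I j).support : Set X) = (U j : Set X)ᶜ) :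
    PerfAux.HasResolutionProperty X ↔
      ∀ j, ∃ (E : X.Modules) (π : E ⟶ ClSub.idealMod (I j)), FlatMod.IsFinLocFree E ∧ Epi π := by
  refine ⟨fun h j => h _ (OmegaAffLib.isQCoh_idealMod (K := I j)) (hft j), fun h => ?_⟩
  choose E π hE hπ using h
  have c := fun j => haveI := hπ j; cosec_of_epi (I j) (hs j) (π j) (hE j)
  haveI : CompactSpace X := ⟨by
    have e : (Set.univ : Set X) = ⋃ j, (U j : Set X) :=
      (congrArg (fun O : X.Opens => (O : Set X)) hcov).symm.trans (Opens.coe_iSup U)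
    rw [e]
    exact isCompact_iUnion fun j => (hU j).isCompact⟩
  haveI : QuasiSeparatedSpace X := Scheme.quasiSeparatedSpace_of_isOpenCover U hcov hU
    fun a b => isCompact_inf (hU b) (c a).some
  exact hasResolutionProperty U hU hcov fun j => (c j).some

end Groth.Agent.CosecExt
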