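import Groth.Agent.CosecExt.Ideal
import Groth.Agent.LimHom.Quot
import Groth.Agent.LimHom.Descend
import Groth.Agent.GenSeesawLib.Stein
import Groth.Agent.PullbackMod.LimFree

/-!
# The resolution property on a limit of schemes
-/

set_option autoImplicit false
set_option backward.isDefEq.respectTransparency false
set_option linter.style.haveILetI false
universe u

open CategoryTheory CategoryTheory.Limits AlgebraicGeometry TopologicalSpace Opposite
open Groth.Agent.PullbackMod Groth.Agent.DCohLib Groth.Agent.CohBase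

noncomputable section

namespace Groth.Agent.CosecExt

variable {X Y : Scheme.{u}}

/-- The non-vanishing locus of a cosection. -/
def nz {E : Y.Modules} (u : E ⟶ Coh.structureModule Y) : Y.Opens :=
  ⨆ p : Σ W : Y.Opens, Γ(E, W), Y.basicOpen (uL u p.1 p.2)

theorem nz_eq {U : Y.Opens} (c : Cosec U) : nz c.u = U :=
  le_antisymm (iSup_le fun p => c.le p.1 p.2) fun x hx => by
    obtain ⟨W, e, h⟩ := c.mem x hx
    exact Opens.mem_iSup.2 ⟨⟨W, e⟩, h⟩

/-- A cosection of a bundle is a cosection for its non-vanishing locus. -/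
def cosecNz {E : Y.Modules} (u : E ⟶ Coh.structureModule Y) (hE : FlatMod.IsFinLocFree E) : Cosec (nz u) where
  E := E
  u := u
  flf := hE
  mem x hx := by
    obtain ⟨⟨W, e⟩, h⟩ := Opens.mem_iSup.1 hx
    exact ⟨W, e, h⟩
  le W e := le_iSup (fun p : Σ W : Y.Opens, Γ(E, W) => Y.basicOpen (uL u p.1 p.2)) ⟨W, e⟩

theorem nz_le_comp {E E' : Y.Modules} (a : E ⟶ E') (u : E' ⟶ Coh.structureModule Y)
    (w : Coh.structureModule Y ⟶ Coh.structureModule Y) : nz (a ≫ u ≫ w) ≤ nz u := by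
  refine iSup_le fun p x hx => ?_
  obtain ⟨W, e⟩ := p
  have h1 : uL (a ≫ u ≫ w) W e = uL u W (a.app W e) * uL w W (1 : Γ(Y, W)) := by
    show w.app W (uL u W (a.app W e)) = _
    conv_lhs => rw [← mul_one (uL u W (a.app W e))]
    exact (uL w W).map_smul _ (1 : Γ(Y, W))
  change x ∈ Y.basicOpen (uL (a ≫ u ≫ w) W e) at hx
  rw [h1, Scheme.basicOpen_mul] at hx
  exact le_iSup (fun p : Σ W : Y.Opens, Γ(E', W) => Y.basicOpen (uL u p.1 p.2)) ⟨W, a.app W e⟩ hx.1

theorem nz_congr {E E' : Y.Modules} (α : E ≅ E') (w : Coh.structureModule Y ≅ Coh.structureModule Y)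
    {v : E ⟶ Coh.structureModule Y} {u : E' ⟶ Coh.structureModule Y} (h : v = α.hom ≫ u ≫ w.hom) :
    nz v = nz u := by
  refine le_antisymm (h ▸ nz_le_comp α.hom u w.hom) ?_
  have h' : u = α.inv ≫ v ≫ w.inv := by simp [h]
  exact h' ▸ nz_le_comp α.inv v w.inv

/-- Pullback of a cosection. -/
def pullCosec (f : X ⟶ Y) {E : Y.Modules} (u : E ⟶ Coh.structureModule Y) :
    (Scheme.Modules.pullback f).obj E ⟶ Coh.structureModule X :=
  (Scheme.Modules.pullback f).map u ≫ (AmpleLib.pullO f).hom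

theorem pullCosec_pullMap (f : X ⟶ Y) {E : Y.Modules} (u : E ⟶ Coh.structureModule Y) {W : Y.Opens}
    {W' : X.Opens} (h : W' ≤ f ⁻¹ᵁ W) (e : Γ(E, W)) :
    uL (pullCosec f u) W' (pullMap f E h e) = f.appLE W W' h (uL u W e) := by
  show (AmpleLib.pullO f).hom.app W' (((Scheme.Modules.pullback f).map u).app W' (pullMap f E h e)) = _
  rw [pullMap_natural]
  exact GenSeesawLib.pullO_pullMap f h (uL u W e)

theorem nz_pullCosec (f : X ⟶ Y) {E : Y.Modules} [Coh.IsQCoh E] (u : E ⟶ Coh.structureModule Y) :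
    nz (pullCosec f u) = f ⁻¹ᵁ nz u := by
  classical
  refine le_antisymm (iSup_le fun p x hx => ?_) fun x hx => ?_
  · obtain ⟨W', e'⟩ := p
    have hxW' : x ∈ W' := X.basicOpen_le _ hx
    obtain ⟨_, ⟨W : Y.Opens, hW, rfl⟩, hyW, -⟩ :=
      Y.isBasis_affineOpens.exists_subset_of_mem_open (Set.mem_univ (f x)) isOpen_univ
    obtain ⟨_, ⟨V : X.Opens, hV, rfl⟩, hxV, hVle⟩ :=
      X.isBasis_affineOpens.exists_subset_of_mem_open (a := x) (u := ↑(W' ⊓ f ⁻¹ᵁ W)) ⟨hxW', hyW⟩ (W' ⊓ f ⁻¹ᵁ W).2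
    have h1 : V ≤ W' := fun z hz => (hVle hz).1
    have h2 : V ≤ f ⁻¹ᵁ W := fun z hz => (hVle hz).2
    letI : Algebra Γ(Y, W) Γ(X, V) := (f.appLE W V h2).hom.toAlgebra
    letI := Module.compHom Γ((Scheme.Modules.pullback f).obj E, V) (f.appLE W V h2).hom
    haveI : IsScalarTower Γ(Y, W) Γ(X, V) Γ((Scheme.Modules.pullback f).obj E, V) :=
      .of_algebraMap_smul fun _ _ => rfl
    have hbc : IsBaseChange Γ(X, V) (pullMapL f E (W' := V) h2) := isBaseChange_pullMapL f E hW hV h2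
    have hnat : uL (pullCosec f u) V (((Scheme.Modules.pullback f).obj E).presheaf.map (homOfLE h1).op e') =
        X.presheaf.map (homOfLE h1).op (uL (pullCosec f u) W' e') :=
      ConcreteCategory.congr_hom ((pullCosec f u).mapPresheaf.naturality (homOfLE h1).op) e'
    have hxV' : x ∈ X.basicOpen (uL (pullCosec f u) V
        (((Scheme.Modules.pullback f).obj E).presheaf.map (homOfLE h1).op e')) := by
      rw [hnat, Scheme.basicOpen_res]
      exact ⟨hxV, hx⟩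
    revert hxV'
    induction (((Scheme.Modules.pullback f).obj E).presheaf.map (homOfLE h1).op e') using hbc.inductionOn with
    | zero => intro h; rw [map_zero, Scheme.basicOpen_zero] at h; exact h.elim
    | tmul m =>
      intro h
      change x ∈ X.basicOpen (uL (pullCosec f u) V (pullMap f E h2 m)) at h
      rw [pullCosec_pullMap, Scheme.basicOpen_appLE] at h
      exact le_iSup (fun p : Σ W : Y.Opens, Γ(E, W) => Y.basicOpen (uL u p.1 p.2)) ⟨W, m⟩ h.2
    | smul r m hm =>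
      intro h
      rw [map_smul, smul_eq_mul, Scheme.basicOpen_mul] at h
      exact hm h.2
    | add m m' hm hm' =>
      intro h
      rw [map_add, X.mem_basicOpen _ x hxV, map_add] at h
      exact (IsLocalRing.isUnit_or_isUnit_of_isUnit_add h).elim
        (fun h' => hm ((X.mem_basicOpen _ x hxV).2 h')) (fun h' => hm' ((X.mem_basicOpen _ x hxV).2 h'))
  · obtain ⟨⟨W, e⟩, h⟩ := Opens.mem_iSup.1 hx
    refine Opens.mem_iSup.2 ⟨⟨f ⁻¹ᵁ W, pullMap f E le_rfl e⟩, ?_⟩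
    show x ∈ X.basicOpen _
    rw [pullCosec_pullMap, Scheme.basicOpen_appLE]
    exact ⟨Y.basicOpen_le _ h, h⟩

/-- A cosection pulls back. -/
def pullCosecData (f : X ⟶ Y) {U : Y.Opens} (c : Cosec U) : Cosec (f ⁻¹ᵁ U) :=
  haveI : Coh.IsQCoh c.E := (isQCoh_and_isFP_of_isFinLocFree c.E c.flf).1
  (show nz (pullCosec f c.u) = f ⁻¹ᵁ U by rw [nz_pullCosec, nz_eq]) ▸
    cosecNz (pullCosec f c.u) (isFinLocFree_pullback f c.E c.flf)

theorem isCompact_nz [CompactSpace Y] {E : Y.Modules} (u : E ⟶ Coh.structureModule Y)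
    (hE : FlatMod.IsFinLocFree E) : IsCompact (nz u : Set Y) := by
  obtain ⟨T, hT, e⟩ := (isCompact_and_isOpen_iff_finite_and_eq_biUnion_affineOpens (U := (Set.univ : Set Y))).1
    ⟨isCompact_univ, isOpen_univ⟩
  have h : (nz u : Set Y) = ⋃ t ∈ T, (nz u : Set Y) ∩ t.1 := by
    rw [← Set.inter_iUnion₂]
    refine (Set.inter_eq_left.2 ?_).symm
    intro x _
    exact e.le (Set.mem_univ x)
  rw [h]
  exact hT.isCompact_biUnion fun t _ => isCompact_inf t.2 (cosecNz u hE)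

variable {I : Type u} [SmallCategory I] [IsCofiltered I] (D : I ⥤ Scheme.{u}) (c : Cone D) (hc : IsLimit c)
  [hD : ∀ {i j : I} (f : i ⟶ j), IsAffineHom (D.map f)] [∀ i, CompactSpace ↥(D.obj i)]
  [∀ i, QuasiSeparatedSpace ↥(D.obj i)]

include hc in
theorem exists_stage_cosec (i₀ : I) {U : (D.obj i₀).Opens} (hU : IsCompact (U : Set (D.obj i₀)))
    (c' : Cosec (c.π.app i₀ ⁻¹ᵁ U)) :
    ∃ (k : I) (φ : k ⟶ i₀), Nonempty (Cosec (D.map φ ⁻¹ᵁ U)) := by
  haveI : Coh.IsQCoh c'.E := (isQCoh_and_isFP_of_isFinLocFree c'.E c'.flf).1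
  have hfp : CohB1.IsFP c'.E := (isQCoh_and_isFP_of_isFinLocFree c'.E c'.flf).2
  obtain ⟨j, φ, E₁, hq, hp, ⟨e⟩⟩ := LimHom.exists_stage_module D c hc i₀ c'.E hfp
  haveI := hq
  have h1 : FlatMod.IsFinLocFree ((Scheme.Modules.pullback (c.π.app j)).obj E₁) :=
    isFinLocFree_iso e.symm c'.flf
  obtain ⟨j₂, ψ, h2⟩ := (PullbackMod.isFinLocFree_eventually D c hc j hp).1 h1
  let E₂ := (Scheme.Modules.pullback (D.map ψ)).obj E₁
  haveI : Coh.IsQCoh E₂ := (isQCoh_and_isFP_of_isFinLocFree E₂ h2).1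
  have hp2 : CohB1.IsFP E₂ := (isQCoh_and_isFP_of_isFinLocFree E₂ h2).2
  haveI : Coh.IsQCoh (Coh.structureModule (D.obj j₂)) :=
    (isQCoh_and_isFP_of_isFinLocFree _ (BCLib.isFinLocFree_structureModule (D.obj j₂))).1
  let e₂ : (Scheme.Modules.pullback (LimHom.pr c j₂)).obj E₂ ≅ c'.E :=
    (Scheme.Modules.pullbackComp (c.π.app j₂) (D.map ψ) ≪≫ Scheme.Modules.pullbackCongr (c.w ψ)).app E₁ ≪≫ e
  let v := e₂.hom ≫ c'.u ≫ (AmpleLib.pullO (LimHom.pr c j₂)).inv
  obtain ⟨k, χ, b, hb⟩ := LimHom.exists_stage_hom D c hc j₂ hp2 v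
  let u₃ : (Scheme.Modules.pullback (D.map χ)).obj E₂ ⟶ Coh.structureModule (D.obj k) :=
    b ≫ (AmpleLib.pullO (D.map χ)).hom
  let E₃ := (Scheme.Modules.pullback (D.map χ)).obj E₂
  have h3 : FlatMod.IsFinLocFree E₃ := isFinLocFree_pullback _ _ h2
  haveI : Coh.IsQCoh E₃ := (isQCoh_and_isFP_of_isFinLocFree E₃ h3).1
  -- the loci agree on the limit
  have hloc : c.π.app k ⁻¹ᵁ nz u₃ = c.π.app k ⁻¹ᵁ (D.map (χ ≫ ψ ≫ φ) ⁻¹ᵁ U) := by
    rw [← Scheme.Hom.comp_preimage, c.w, ← nz_pullCosec, ← nz_eq c']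
    let α := FpqcQCoh.cmpIso E₂ (LimHom.pr c k) (LimHom.pr_w c χ)
    refine nz_congr (α ≪≫ e₂)
      ((AmpleLib.pullO (LimHom.pr c j₂)).symm ≪≫
        (FpqcQCoh.cmpIso (Coh.structureModule (D.obj j₂)) (LimHom.pr c k) (LimHom.pr_w c χ)).symm ≪≫
        (Scheme.Modules.pullback (LimHom.pr c k)).mapIso (AmpleLib.pullO (D.map χ)) ≪≫
        AmpleLib.pullO (LimHom.pr c k)) ?_
    show (Scheme.Modules.pullback (LimHom.pr c k)).map (b ≫ (AmpleLib.pullO (D.map χ)).hom) ≫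
      (AmpleLib.pullO (LimHom.pr c k)).hom = _
    have h4 : (Scheme.Modules.pullback (LimHom.pr c k)).map b = α.hom ≫ v ≫
        (FpqcQCoh.cmpIso (Coh.structureModule (D.obj j₂)) (LimHom.pr c k) (LimHom.pr_w c χ)).inv := by
      rw [← hb]
      simp [LimHom.ov, α]
    rw [Functor.map_comp, Category.assoc, h4]
    simp [v]
  obtain ⟨l, ω, hω⟩ := exists_map_preimage_eq_map_preimage D c hc (isCompact_nz u₃ h3)
    (QuasiCompact.isCompact_preimage (f := D.map (χ ≫ ψ ≫ φ)) _ U.2 hU) hloc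
  refine ⟨l, ω ≫ χ ≫ ψ ≫ φ, ⟨?_⟩⟩
  rw [Functor.map_comp, Scheme.Hom.comp_preimage, ← hω]
  exact pullCosecData (D.map ω) (cosecNz u₃ h3)

end Groth.Agent.CosecExt
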