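import Groth.Agent.CosecExt.Twist
import Groth.Agent.LimHom.Hom
import Groth.Agent.ResPropLib.Affine
import Groth.Agent.DCohLib.TensorPerf
import Groth.Agent.FactorOne.Basic
import Groth.Agent.BCLib.SteinFlat

/-!
# Extending a section over the non-vanishing locus of a cosection to a map from a bundle
-/

set_option autoImplicit false
set_option backward.isDefEq.respectTransparency false
set_option linter.style.haveILetI false
universe u

open CategoryTheory CategoryTheory.Limits AlgebraicGeometry TopologicalSpace Opposite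
open Groth.Agent.PullbackMod Groth.Agent.DCohLib Groth.Agent.CohBase

noncomputable section

namespace Groth.Agent.CosecExt

variable {X : Scheme.{u}}

/-- Sections over a quasi-compact open of an affine extend after multiplication by a power. -/
theorem exists_pow_extend_to (M : X.Modules) [Coh.IsQCoh M] {V : X.Opens} (hV : IsAffineOpen V)
    {O' : X.Opens} (hle : O' ≤ V) (hO' : IsCompact (O' : Set X)) (f : Γ(X, V))
    (hf : X.basicOpen f ≤ O') (t : Γ(M, O')) :
    ∃ (N : ℕ) (m : Γ(M, V)), M.presheaf.map (homOfLE hle).op m =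
      X.presheaf.map (homOfLE hle).op (f ^ N) • t := by
  classical
  obtain ⟨n, m₀, hm₀⟩ := (QCohLib.locAt M hV).extend f (M.presheaf.map (homOfLE hf).op t)
  rw [sc_apply] at hm₀
  obtain ⟨T, hT, e⟩ := (isCompact_and_isOpen_iff_finite_and_eq_biUnion_affineOpens (U := (O' : Set X))).1
    ⟨hO', O'.2⟩
  haveI := hT.fintype
  let d : Γ(M, O') := M.presheaf.map (homOfLE hle).op m₀ - X.presheaf.map (homOfLE hle).op (f ^ n) • t
  have hW : ∀ W : T, W.1.1 ≤ O' := fun W x hx => e.ge (Set.mem_biUnion W.2 hx)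
  have hkill : ∀ W : T, ∃ k : ℕ, ∀ j, k ≤ j →
      X.presheaf.map (homOfLE ((hW W).trans hle)).op (f ^ j) • M.presheaf.map (homOfLE (hW W)).op d = 0 := by
    intro W
    let g : Γ(X, W.1.1) := X.presheaf.map (homOfLE ((hW W).trans hle)).op f
    have hg : X.basicOpen g ≤ X.basicOpen f :=
      (X.basicOpen_res f (homOfLE ((hW W).trans hle)).op).le.trans inf_le_right
    obtain ⟨k, hk⟩ := (QCohLib.locAt M W.1.2).kill g (M.presheaf.map (homOfLE (hW W)).op d) (by
      rw [restr_trans]
      have h1 := congrArg (M.presheaf.map (homOfLE hg).op) hm₀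
      rw [restr_trans, Scheme.Modules.map_smul, restr_trans] at h1
      simp only [d, map_sub, restr_trans, Scheme.Modules.map_smul, sub_eq_zero]
      refine h1.trans (congrArg (· • _) ?_)
      rw [← ConcreteCategory.comp_apply, ← X.presheaf.map_comp, ← ConcreteCategory.comp_apply,
        ← X.presheaf.map_comp]
      rfl)
    refine ⟨k, fun j hj => ?_⟩
    rw [sc_apply] at hk
    obtain ⟨i, rfl⟩ := Nat.exists_eq_add_of_le' hj
    rw [map_pow, pow_add, mul_smul]
    have e1 : X.presheaf.map (homOfLE (le_refl W.1.1)).op (g ^ k) = g ^ k :=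
      ConcreteCategory.congr_hom (X.presheaf.map_id _) _
    rw [e1] at hk
    rw [hk, smul_zero]
  choose k hk using hkill
  let K := Finset.univ.sup k
  refine ⟨K + n, f ^ K • m₀, ?_⟩
  have hd : X.presheaf.map (homOfLE hle).op (f ^ K) • d = 0 := by
    let F' : TopCat.Sheaf Ab.{u} X.carrier := ⟨M.presheaf, M.isSheaf⟩
    refine F'.eq_of_locally_eq' (fun W : T => W.1.1) O' (fun W => homOfLE (hW W)) (fun x hx => ?_) _ _ fun W => ?_
    · obtain ⟨a, ha, hxa⟩ := Set.mem_iUnion₂.1 (e.le hx)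
      exact Opens.mem_iSup.2 ⟨⟨a, ha⟩, hxa⟩
    · show M.presheaf.map (homOfLE (hW W)).op _ = M.presheaf.map (homOfLE (hW W)).op 0
      rw [map_zero, Scheme.Modules.map_smul]
      refine Eq.trans (congrArg (· • _) ?_) (hk W K (Finset.le_sup (Finset.mem_univ W)))
      rw [← ConcreteCategory.comp_apply, ← X.presheaf.map_comp]
      rfl
  rw [Scheme.Modules.map_smul, pow_add, map_mul, mul_smul, ← sub_eq_zero, ← smul_sub]
  exact hd

variable {ι : Type} {W : ι → X.Opens} (hW : ∀ a, IsAffineOpen (W a)) {E F M : X.Modules}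
  [Coh.IsQCoh E] [Coh.IsQCoh M]

/-- Compatible maps on a family of affines. -/
def Agree (F : X.Modules) [Coh.IsQCoh F] (L : ∀ a, Γ(F, W a) →ₗ[Γ(X, W a)] Γ(M, W a)) : Prop :=
  ∀ a b (p : X.Opens) (hp : IsAffineOpen p) (ha : p ≤ W a) (hb : p ≤ W b),
    LimHom.ext F M (hW a) (L a) hp ha = LimHom.ext F M (hW b) (L b) hp hb

variable (u : E ⟶ Coh.structureModule X) {V : X.Opens} (hV : IsAffineOpen V)

include hV in
theorem step_aux (hfl : FlatMod.IsFinLocFree E) (a₀ : ι) (e₀ : Γ(E, W a₀)) (he₀ : uL u (W a₀) e₀ = 1)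
    (s : Γ(M, W a₀)) {O' : X.Opens} (hle : O' ≤ V) (hO : ∀ a (p : X.Opens), p ≤ V → p ≤ W a → p ≤ O')
    (K : ℕ) : ∀ (F : X.Modules) [Coh.IsQCoh F], FlatMod.IsFinLocFree F →
      ∀ (L : ∀ a, Γ(F, W a) →ₗ[Γ(X, W a)] Γ(M, W a)), Agree hW F L → (∃ m, L a₀ m = s) →
      ∀ (l : Γ(F, V) →+ Γ(M, O')),
      (∀ (r : Γ(X, V)) m, l (r • m) = X.presheaf.map (homOfLE hle).op r • l m) →
      (∀ a m (p : X.Opens) (hp : IsAffineOpen p) (hpV : p ≤ V) (hpa : p ≤ W a),
        M.presheaf.map (homOfLE (hO a p hpV hpa)).op (l m) =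
          LimHom.ext F M (hW a) (L a) hp hpa (F.presheaf.map (homOfLE hpV).op m)) →
      (∀ r ∈ LinearMap.range (uL u V) ^ K, ∀ m, ∃ t : Γ(M, V),
        M.presheaf.map (homOfLE hle).op t = X.presheaf.map (homOfLE hle).op r • l m) →
      ∃ (F' : X.Modules) (_ : Coh.IsQCoh F'), FlatMod.IsFinLocFree F' ∧
        ∃ (L' : ∀ a, Γ(F', W a) →ₗ[Γ(X, W a)] Γ(M, W a)) (LV : Γ(F', V) →ₗ[Γ(X, V)] Γ(M, V)),
          Agree hW F' L' ∧ (∃ m, L' a₀ m = s) ∧
          ∀ a (p : X.Opens) (hp : IsAffineOpen p) (hpV : p ≤ V) (hpa : p ≤ W a),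
            LimHom.ext F' M hV LV hp hpV = LimHom.ext F' M (hW a) (L' a) hp hpa := by
  induction K with
  | zero =>
    intro F _ hF L hL hs l hl hlext hK
    letI : Module Γ(X, V) Γ(M, O') := Module.compHom _ (X.presheaf.map (homOfLE hle).op).hom
    let l' : Γ(F, V) →ₗ[Γ(X, V)] Γ(M, O') := { l with map_smul' := hl }
    let res : Γ(M, V) →ₗ[Γ(X, V)] Γ(M, O') :=
      { toFun := M.presheaf.map (homOfLE hle).op
        map_add' := map_add _
        map_smul' := fun r m => Scheme.Modules.map_smul M (homOfLE hle) r m }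
    haveI := FactorOne.projective_sections F hF hV
    have hmem : ∀ m, l' m ∈ LinearMap.range res := fun m => by
      obtain ⟨t, ht⟩ := hK 1 (by rw [pow_zero, Ideal.one_eq_top]; exact Submodule.mem_top) m
      exact ⟨t, ht.trans (by rw [map_one, one_smul]; rfl)⟩
    obtain ⟨LV, hLV⟩ := Module.projective_lifting_property res.rangeRestrict
      (l'.codRestrict _ hmem) res.surjective_rangeRestrict
    refine ⟨F, inferInstance, hF, L, LV, hL, hs, fun a p hp hpV hpa => LimHom.res_ext F hV hp hpV fun m => ?_⟩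
    rw [LimHom.ext_res, ← hlext a m p hp hpV hpa]
    have h1 : M.presheaf.map (homOfLE hle).op (LV m) = l m :=
      congrArg Subtype.val (LinearMap.congr_fun hLV m)
    rw [← h1, restr_trans]
  | succ K ih =>
    intro F _ hF L hL hs l hl hlext hK
    haveI : Coh.IsQCoh (tmod F E) := (isQCoh_and_isFP_of_isFinLocFree _ (isFinLocFree_tensor hF hfl)).1
    let q : ∀ O : X.Opens, Γ(tmod F E, O) →ₗ[Γ(X, O)] Γ(F, O) := fun O => FlatLocus.appL (twist u F) O
    have hq : ∀ a (p : X.Opens) (hp : IsAffineOpen p) (hpa : p ≤ W a),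
        LimHom.ext (tmod F E) M (hW a) ((L a).comp (q (W a))) hp hpa =
          (LimHom.ext F M (hW a) (L a) hp hpa).comp (q p) := fun a p hp hpa =>
      LimHom.res_ext (tmod F E) (hW a) hp hpa fun m => by
        rw [LimHom.ext_res, LinearMap.comp_apply, LinearMap.comp_apply, ← LimHom.ext_res F M (hW a) (L a) hp hpa]
        exact congrArg _ (QCohLib.app_res (twist u F) hpa m).symm
    refine ih (tmod F E) (isFinLocFree_tensor hF hfl) (fun a => (L a).comp (q (W a)))
      (fun a b p hp ha hb => by rw [hq a p hp ha, hq b p hp hb, hL a b p hp ha hb]) ?_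
      (l.comp (q V).toAddMonoidHom) (fun r m => ?_) (fun a m p hp hpV hpa => ?_) (fun r hr m => ?_)
    · obtain ⟨m, hm⟩ := hs
      exact ⟨pairS F E m e₀, by rw [LinearMap.comp_apply]; exact (congrArg (L a₀) (mem_range_twist_app u e₀ he₀ m)).trans hm⟩
    · show l (q V (r • m)) = _ • l (q V m)
      rw [map_smul, hl]
    · show M.presheaf.map _ (l (q V m)) = _
      rw [hlext a _ p hp hpV hpa, hq a p hp hpa, LinearMap.comp_apply]
      exact congrArg _ (QCohLib.app_res (twist u F) hpV m).symm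
    · show ∃ t, _ = _ • l (q V m)
      have hm : q V m ∈ LinearMap.range (uL u V) • (⊤ : Submodule Γ(X, V) Γ(F, V)) := twist_app_mem u hV m
      refine Submodule.smul_induction_on (p := fun z => ∃ t : Γ(M, V), M.presheaf.map (homOfLE hle).op t =
        X.presheaf.map (homOfLE hle).op r • l z) hm (fun c hc y _ => ?_) fun y y' hy hy' => ?_
      · obtain ⟨t, ht⟩ := hK (r * c) (pow_succ (LinearMap.range (uL u V) : Ideal Γ(X, V)) K ▸
          Ideal.mul_mem_mul hr hc) y
        refine ⟨t, ht.trans ?_⟩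
        rw [hl, smul_smul, map_mul]
      · obtain ⟨t, ht⟩ := hy
        obtain ⟨t', ht'⟩ := hy'
        exact ⟨t + t', by rw [map_add, ht, ht', map_add, smul_add]⟩

include hV in
theorem exists_step [Finite ι] (hfl : FlatMod.IsFinLocFree E) (a₀ : ι) (e₀ : Γ(E, W a₀))
    (he₀ : uL u (W a₀) e₀ = 1) (hsupp : ∀ (O : X.Opens) (e : Γ(E, O)), X.basicOpen (uL u O e) ≤ W a₀)
    [QuasiSeparatedSpace X]
    (s : Γ(M, W a₀)) (F : X.Modules) [Coh.IsQCoh F] (hF : FlatMod.IsFinLocFree F)
    (L : ∀ a, Γ(F, W a) →ₗ[Γ(X, W a)] Γ(M, W a)) (hL : Agree hW F L) (hs : ∃ m, L a₀ m = s) :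
    ∃ (F' : X.Modules) (_ : Coh.IsQCoh F'), FlatMod.IsFinLocFree F' ∧
        ∃ (L' : ∀ a, Γ(F', W a) →ₗ[Γ(X, W a)] Γ(M, W a)) (LV : Γ(F', V) →ₗ[Γ(X, V)] Γ(M, V)),
          Agree hW F' L' ∧ (∃ m, L' a₀ m = s) ∧
          ∀ a (p : X.Opens) (hp : IsAffineOpen p) (hpV : p ≤ V) (hpa : p ≤ W a),
            LimHom.ext F' M hV LV hp hpV = LimHom.ext F' M (hW a) (L' a) hp hpa := by
  classical
  let O' : X.Opens := V ⊓ ⨆ a, W a
  have hle : O' ≤ V := inf_le_left
  have hO : ∀ a (p : X.Opens), p ≤ V → p ≤ W a → p ≤ O' := fun a p h1 h2 =>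
    le_inf h1 (h2.trans (le_iSup W a))
  have hc : IsCompact (O' : Set X) := by
    refine QuasiSeparatedSpace.inter_isCompact _ _ V.2 hV.isCompact (⨆ a, W a).2 ?_
    rw [Opens.coe_iSup]
    exact isCompact_iUnion fun a => (hW a).isCompact
  let F' : TopCat.Sheaf Ab.{u} X.carrier := ⟨M.presheaf, M.isSheaf⟩
  let J := {p : ι × X.Opens // IsAffineOpen p.2 ∧ p.2 ≤ V ∧ p.2 ≤ W p.1}
  have hJ : O' ≤ ⨆ p : J, p.1.2 := fun x hx => by
    obtain ⟨a, ha⟩ := Opens.mem_iSup.1 hx.2
    obtain ⟨_, ⟨p, hp, rfl⟩, hxp, hple⟩ :=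
      X.isBasis_affineOpens.exists_subset_of_mem_open (a := x) (u := ↑(V ⊓ W a)) ⟨hx.1, ha⟩ (V ⊓ W a).2
    exact Opens.mem_iSup.2 ⟨⟨(a, p), hp, fun y hy => (hple hy).1, fun y hy => (hple hy).2⟩, hxp⟩
  have hle' : ∀ p : J, p.1.2 ≤ O' := fun p => hO p.1.1 p.1.2 p.2.2.1 p.2.2.2
  have hglue : ∀ m : Γ(F, V), ∃! t : Γ(M, O'), ∀ p : J, M.presheaf.map (homOfLE (hle' p)).op t =
      LimHom.ext F M (hW p.1.1) (L p.1.1) p.2.1 p.2.2.2 (F.presheaf.map (homOfLE p.2.2.1).op m) := by
    intro m
    refine TopCat.Sheaf.existsUnique_gluing' F' (fun p : J => p.1.2) O' (fun p => homOfLE (hle' p)) hJ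
      (fun p => LimHom.ext F M (hW p.1.1) (L p.1.1) p.2.1 p.2.2.2 (F.presheaf.map (homOfLE p.2.2.1).op m))
      fun p q => ?_
    let J' := {Z : X.Opens // IsAffineOpen Z ∧ Z ≤ p.1.2 ⊓ q.1.2}
    refine TopCat.Sheaf.eq_of_locally_eq' F' (fun Z : J' => Z.1) _ (fun Z => homOfLE Z.2.2)
      (fun x hx => ?_) _ _ fun Z => ?_
    · obtain ⟨_, ⟨Z, hZ, rfl⟩, hxZ, hZle⟩ :=
        X.isBasis_affineOpens.exists_subset_of_mem_open hx (p.1.2 ⊓ q.1.2).2
      exact Opens.mem_iSup.2 ⟨⟨Z, hZ, hZle⟩, hxZ⟩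
    · have h1 : Z.1 ≤ p.1.2 := Z.2.2.trans inf_le_left
      have h2 : Z.1 ≤ q.1.2 := Z.2.2.trans inf_le_right
      show M.presheaf.map (homOfLE Z.2.2).op (M.presheaf.map (homOfLE inf_le_left).op _) =
        M.presheaf.map (homOfLE Z.2.2).op (M.presheaf.map (homOfLE inf_le_right).op _)
      rw [restr_trans, restr_trans, LimHom.res_ext_apply F M _ _ p.2.1 Z.2.1 _ h1,
        LimHom.res_ext_apply F M _ _ q.2.1 Z.2.1 _ h2, restr_trans, restr_trans,
        hL p.1.1 q.1.1 Z.1 Z.2.1 (h1.trans p.2.2.2) (h2.trans q.2.2.2)]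
  choose f hf huniq using hglue
  let l : Γ(F, V) →+ Γ(M, O') := AddMonoidHom.mk' f fun m m' => (huniq (m + m') _ fun p => by
    rw [map_add, map_add, map_add, hf m p, hf m' p]).symm
  have hl : ∀ (r : Γ(X, V)) m, l (r • m) = X.presheaf.map (homOfLE hle).op r • l m := fun r m =>
    (huniq (r • m) _ fun p => by
      show M.presheaf.map _ (_ • f m) = _
      rw [Scheme.Modules.map_smul, hf m p, Scheme.Modules.map_smul, LinearMap.map_smul,
        ← ConcreteCategory.comp_apply, ← X.presheaf.map_comp]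
      rfl).symm
  -- sections of the cosection that kill the obstruction
  let Jid : Γ(F, V) → Ideal Γ(X, V) := fun m =>
    { carrier := {r | ∃ t : Γ(M, V), M.presheaf.map (homOfLE hle).op t =
        X.presheaf.map (homOfLE hle).op r • l m}
      zero_mem' := ⟨0, by rw [map_zero, map_zero, zero_smul]⟩
      add_mem' := by
        rintro r r' ⟨t, ht⟩ ⟨t', ht'⟩
        exact ⟨t + t', by rw [map_add, ht, ht', map_add, add_smul]⟩
      smul_mem' := by
        rintro c r ⟨t, ht⟩
        refine ⟨c • t, ?_⟩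
        rw [Scheme.Modules.map_smul, ht, smul_eq_mul, map_mul, mul_smul] }
  set I := LinearMap.range (uL u V) with hI
  have hrad : ∀ m, I ≤ (Jid m).radical := by
    rintro m r ⟨e, rfl⟩
    have h1 : X.basicOpen (uL u V e) ≤ O' :=
      le_inf (X.basicOpen_le _) ((hsupp V e).trans (le_iSup W a₀))
    obtain ⟨N, t, ht⟩ := exists_pow_extend_to M hV hle hc _ h1 (l m)
    exact ⟨N, t, ht⟩
  haveI : SheafOfModules.IsFinitePresentation (R := X.ringCatSheaf) E := (isQCoh_and_isFP_of_isFinLocFree E hfl).2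
  haveI : SheafOfModules.IsFinitePresentation (R := X.ringCatSheaf) F := (isQCoh_and_isFP_of_isFinLocFree F hF).2
  haveI := QCohLib.finite_sections E (show SheafOfModules.IsFiniteType (R := X.ringCatSheaf) E from inferInstance) hV
  haveI := QCohLib.finite_sections F (show SheafOfModules.IsFiniteType (R := X.ringCatSheaf) F from inferInstance) hV
  have hfg : I.FG := hI ▸ (LinearMap.range_eq_map (uL u V)) ▸ Module.Finite.fg_top.map _
  choose k hk using fun m => Ideal.exists_pow_le_of_le_radical_of_fg (hrad m) hfg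
  obtain ⟨S, hS⟩ := (Module.Finite.fg_top : (⊤ : Submodule Γ(X, V) Γ(F, V)).FG)
  refine step_aux hW u hV hfl a₀ e₀ he₀ s hle hO (S.sup k) F hF L hL hs l hl
    (fun a m p hp hpV hpa => hf m ⟨(a, p), hp, hpV, hpa⟩) fun r hr m => ?_
  have hm : m ∈ Submodule.span Γ(X, V) (S : Set Γ(F, V)) := hS ▸ Submodule.mem_top
  induction hm using Submodule.span_induction with
  | mem y hy => exact hk y (Ideal.pow_le_pow_right (Finset.le_sup hy) hr)
  | zero => exact ⟨0, by rw [map_zero, map_zero, smul_zero]⟩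
  | add y y' _ _ hy hy' =>
    obtain ⟨t, ht⟩ := hy
    obtain ⟨t', ht'⟩ := hy'
    exact ⟨t + t', by rw [map_add, ht, ht', map_add, smul_add]⟩
  | smul c y _ hy =>
    obtain ⟨t, ht⟩ := hy
    refine ⟨c • t, ?_⟩
    rw [Scheme.Modules.map_smul, ht, hl, smul_smul, smul_smul, mul_comm]

/-- A section over the non-vanishing locus of a cosection of a bundle comes from a map out of a bundle. -/
theorem exists_map_through [CompactSpace X] [QuasiSeparatedSpace X] (hfl : FlatMod.IsFinLocFree E)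
    {U : X.Opens} (hU : IsAffineOpen U) (e₀ : Γ(E, U)) (he₀ : uL u U e₀ = 1)
    (hsupp : ∀ (O : X.Opens) (e : Γ(E, O)), X.basicOpen (uL u O e) ≤ U) (s : Γ(M, U)) :
    ∃ (F : X.Modules) (φ : F ⟶ M), FlatMod.IsFinLocFree F ∧ ∃ m : Γ(F, U), φ.app U m = s := by
  classical
  obtain ⟨T, hT, e⟩ := (isCompact_and_isOpen_iff_finite_and_eq_biUnion_affineOpens (U := (Set.univ : Set X))).1
    ⟨isCompact_univ, isOpen_univ⟩
  haveI := hT.fintype
  obtain ⟨n, V, hVsurj⟩ : ∃ (n : ℕ) (V : Fin n → T), Function.Surjective V :=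
    ⟨_, (Fintype.equivFin T).symm, (Fintype.equivFin T).symm.surjective⟩
  suffices H : ∀ k (hk : k ≤ n), ∃ (F : X.Modules) (_ : Coh.IsQCoh F), FlatMod.IsFinLocFree F ∧
      ∃ (L : ∀ a : Option (Fin k), Γ(F, a.elim U fun i => (V (Fin.castLE hk i)).1.1)
          →ₗ[Γ(X, a.elim U fun i => (V (Fin.castLE hk i)).1.1)]
          Γ(M, a.elim U fun i => (V (Fin.castLE hk i)).1.1)),
        Agree (W := fun a : Option (Fin k) => a.elim U fun i => (V (Fin.castLE hk i)).1.1)
          (fun a => by cases a with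
            | none => exact hU
            | some i => exact (V (Fin.castLE hk i)).1.2) F L ∧ ∃ m, L none m = s by
    obtain ⟨F, hFq, hF, L, hL, m, hm⟩ := H n le_rfl
    haveI := hFq
    obtain ⟨φ, hφ⟩ := LimHom.exists_hom_of_cover F M
      (fun a : Option (Fin n) => a.elim U fun i => (V (Fin.castLE le_rfl i)).1.1)
      (fun a => by cases a with
        | none => exact hU
        | some i => exact (V (Fin.castLE le_rfl i)).1.2)
      (eq_top_iff.2 fun x _ => by
        obtain ⟨a, ha, hxa⟩ := Set.mem_iUnion₂.1 (e.le (Set.mem_univ x))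
        obtain ⟨i, hi⟩ := hVsurj ⟨a, ha⟩
        refine Opens.mem_iSup.2 ⟨some i, ?_⟩
        show x ∈ (V (Fin.castLE le_rfl i)).1.1
        rw [show Fin.castLE le_rfl i = i from rfl, hi]
        exact hxa) L hL
    exact ⟨F, φ, hF, m, (hφ none m).trans hm⟩
  intro k
  induction k with
  | zero =>
    intro hk
    haveI : Coh.IsQCoh (Coh.structureModule X) := (isQCoh_and_isFP_of_isFinLocFree _
      (BCLib.isFinLocFree_structureModule X)).1
    refine ⟨Coh.structureModule X, inferInstance, BCLib.isFinLocFree_structureModule X, fun a => match a with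
      | none => LinearMap.toSpanSingleton Γ(X, U) Γ(M, U) s
      | some i => i.elim0, fun a b p hp ha hb => ?_, ⟨(1 : Γ(X, U)), (one_smul Γ(X, U) s : _)⟩⟩
    match a, b with
    | none, none => rfl
    | some i, _ => exact i.elim0
    | _, some i => exact i.elim0
  | succ k ih =>
    intro hk
    obtain ⟨F, hFq, hF, L, hL, hs⟩ := ih (Nat.le_of_succ_le hk)
    haveI := hFq
    obtain ⟨F', hFq', hF', L', LV, hL', hs', hLV⟩ := exists_step
      (W := fun a : Option (Fin k) => a.elim U fun i => (V (Fin.castLE (Nat.le_of_succ_le hk) i)).1.1)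
      _ u (V (Fin.castLE hk (Fin.last k))).1.2 hfl none e₀ he₀ hsupp s F hF L hL hs
    haveI := hFq'
    let L'' : ∀ a : Option (Fin (k + 1)), Γ(F', a.elim U fun i => (V (Fin.castLE hk i)).1.1)
        →ₗ[Γ(X, a.elim U fun i => (V (Fin.castLE hk i)).1.1)]
        Γ(M, a.elim U fun i => (V (Fin.castLE hk i)).1.1) := fun a => match a with
      | none => L' none
      | some i => Fin.lastCases (motive := fun i => Γ(F', (V (Fin.castLE hk i)).1.1)
          →ₗ[Γ(X, (V (Fin.castLE hk i)).1.1)]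
          Γ(M, (V (Fin.castLE hk i)).1.1)) LV (fun j => L' (some j)) i
    refine ⟨F', hFq', hF', L'', fun a b p hp ha hb => ?_, hs'⟩
    match a, b with
    | none, none => rfl
    | none, some i =>
      induction i using Fin.lastCases with
      | last =>
        simp only [L'', Fin.lastCases_last]
        exact (hLV none p hp hb ha).symm
      | cast j =>
        simp only [L'', Fin.lastCases_castSucc]
        exact hL' none (some j) p hp ha hb
    | some i, none =>
      induction i using Fin.lastCases with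
      | last =>
        simp only [L'', Fin.lastCases_last]
        exact hLV none p hp ha hb
      | cast j =>
        simp only [L'', Fin.lastCases_castSucc]
        exact hL' (some j) none p hp ha hb
    | some i, some i' =>
      induction i using Fin.lastCases with
      | last =>
        induction i' using Fin.lastCases with
        | last => rfl
        | cast j' =>
          simp only [L'', Fin.lastCases_last, Fin.lastCases_castSucc]
          exact hLV (some j') p hp ha hb
      | cast j =>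
        induction i' using Fin.lastCases with
        | last =>
          simp only [L'', Fin.lastCases_last, Fin.lastCases_castSucc]
          exact (hLV (some j) p hp hb ha).symm
        | cast j' =>
          simp only [L'', Fin.lastCases_castSucc]
          exact hL' (some j) (some j') p hp ha hb

end Groth.Agent.CosecExt
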