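import Groth.Agent.DCohLib.StalkTensor
import Groth.Agent.LocFreeHomLib.Coherence
import Groth.Agent.FlatLocus.ModInjFlat
import Groth.Agent.QCohLib.Criterion
import Mathlib.RingTheory.LocalProperties.Basic

/-!
# Twisting by a cosection
-/

set_option autoImplicit false
set_option backward.isDefEq.respectTransparency false
set_option linter.style.haveILetI false
universe u

open CategoryTheory CategoryTheory.Limits AlgebraicGeometry TopologicalSpace Opposite
open Groth.Agent.PullbackMod Groth.Agent.DCohLib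

noncomputable section

namespace Groth.Agent.CosecExt

variable {X : Scheme.{u}}

theorem gs {M : X.Modules} {U : X.Opens} (x : X) (hx : x ∈ U) (a : Γ(X, U)) (m : Γ(M, U)) :
    M.presheaf.germ U x hx (a • m) = X.presheaf.germ U x hx a • M.presheaf.germ U x hx m :=
  PresheafOfModules.germ_smul (R := X.presheaf) M.val x U hx a m

/-- A cosection on sections. -/
def uL {E : X.Modules} (v : E ⟶ Coh.structureModule X) (W : X.Opens) : Γ(E, W) →ₗ[Γ(X, W)] Γ(X, W) where
  toFun e := v.app W e
  map_add' := map_add _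
  map_smul' a e := Scheme.Modules.Hom.app_smul v a e

variable {F E : X.Modules} (u : E ⟶ Coh.structureModule X)

/-- Multiplication by a cosection. -/
def twist (F : X.Modules) : tmod F E ⟶ F :=
  ((DCoh.tensorBi (X := X)).obj F).map u ≫ LocFreeHomLib.runitMap F

theorem twist_pairS {U : X.Opens} (a : Γ(F, U)) (b : Γ(E, U)) :
    (twist u F).app U (pairS F E a b) = uL u U b • a := by
  show (LocFreeHomLib.runitMap F).app U ((((DCoh.tensorBi (X := X)).obj F).map u).app U (pairS F E a b)) = _
  rw [tensorBi_app_pairS_right]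
  exact LocFreeHomLib.runitMap_pairS F a (uL u U b)

theorem mem_range_twist_app {U : X.Opens} (e : Γ(E, U)) (he : uL u U e = 1) (a : Γ(F, U)) :
    (twist u F).app U (pairS F E a e) = a := by
  rw [twist_pairS, he, one_smul]

/-- The image of the twist on an affine open lies in the multiples by the image of the cosection. -/
theorem twist_app_mem [Coh.IsQCoh F] [Coh.IsQCoh E] {V : X.Opens} (hV : IsAffineOpen V)
    (z : Γ(tmod F E, V)) :
    (twist u F).app V z ∈ LinearMap.range (uL u V) • (⊤ : Submodule Γ(X, V) Γ(F, V)) := by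
  classical
  set P := LinearMap.range (uL u V) • (⊤ : Submodule Γ(X, V) Γ(F, V)) with hP
  set q := (twist u F).app V z with hq
  let A : Ideal Γ(X, V) := P.comap (LinearMap.toSpanSingleton Γ(X, V) Γ(F, V) q)
  suffices hA : A = ⊤ by
    have h1 : (1 : Γ(X, V)) ∈ A := hA ▸ Submodule.mem_top
    simpa [A] using h1
  by_contra hne
  obtain ⟨p, hp, hle⟩ := Ideal.exists_le_maximal A hne
  haveI := hp.isPrime
  let y : PrimeSpectrum Γ(X, V) := ⟨p, hp.isPrime⟩
  have hyV : hV.fromSpec y ∈ V := by
    have : hV.fromSpec y ∈ Set.range hV.fromSpec := ⟨y, rfl⟩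
    rwa [hV.range_fromSpec] at this
  set x := hV.fromSpec y
  have hpx : hV.primeIdealOf ⟨x, hyV⟩ = y := hV.fromSpec.isOpenEmbedding.injective
    (hV.fromSpec_primeIdealOf ⟨x, hyV⟩)
  letI := Module.compHom (F.presheaf.stalk x) (X.presheaf.germ V x hyV).hom
  letI := Module.compHom (E.presheaf.stalk x) (X.presheaf.germ V x hyV).hom
  have hF := FlatLocus.isLocalizedModule_germL F hV x hyV
  have hE := FlatLocus.isLocalizedModule_germL E hV x hyV
  rw [hpx] at hF hE
  let Good : F.presheaf.stalk x → Prop := fun w => ∃ h ∉ p, ∃ m ∈ P,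
    X.presheaf.germ V x hyV h • w = F.presheaf.germ V x hyV m
  have hgood : ∀ w, Good (stalkLin (twist u F) x (stalkTensor x F E w)) := fun w => by
    induction w using TensorProduct.induction_on with
    | zero => exact ⟨1, fun h => hp.ne_top ((Ideal.eq_top_iff_one p).2 h), 0, zero_mem _, by simp⟩
    | add w w' hw hw' =>
      obtain ⟨h, hh, m, hm, e⟩ := hw
      obtain ⟨h', hh', m', hm', e'⟩ := hw'
      refine ⟨h * h', fun hc => (hp.isPrime.mem_or_mem hc).elim hh hh', h' • m + h • m',
        add_mem (P.smul_mem _ hm) (P.smul_mem _ hm'), ?_⟩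
      rw [map_add, map_add, smul_add, map_mul, map_add, gs, gs, ← e,
        ← e', mul_smul, mul_smul, smul_comm (X.presheaf.germ V x hyV h) (X.presheaf.germ V x hyV h')]
    | tmul a b =>
      obtain ⟨⟨a', g, hg⟩, hga⟩ := hF.surj a
      obtain ⟨⟨b', g', hg'⟩, hgb⟩ := hE.surj b
      refine ⟨g * g', fun hc => (hp.isPrime.mem_or_mem hc).elim hg hg', uL u V b' • a',
        Submodule.smul_mem_smul ⟨b', rfl⟩ Submodule.mem_top, ?_⟩
      have e1 : X.presheaf.germ V x hyV g • a = F.presheaf.germ V x hyV a' := hga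
      have e2 : X.presheaf.germ V x hyV g' • b = E.presheaf.germ V x hyV b' := hgb
      rw [← twist_pairS u a' b', ← stalkLin_germ, ← stalkTensorHom_tmul (x := x) hyV a' b', ← e1, ← e2,
        TensorProduct.tmul_smul, ← TensorProduct.smul_tmul', smul_smul, map_mul,
        map_smul, map_smul, mul_comm]
      rfl
  obtain ⟨w, hw⟩ := (stalkTensor x F E).surjective ((tmod F E).presheaf.germ V x hyV z)
  obtain ⟨h, hh, m, hm, e⟩ := hgood w
  rw [hw, stalkLin_germ, ← hq, ← gs] at e
  obtain ⟨⟨c, hc⟩, hcm⟩ := hF.exists_of_eq (x₁ := h • q) (x₂ := m) e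
  refine (hp.isPrime.mem_or_mem (hle (show c * h ∈ A from ?_))).elim hc hh
  show (c * h) • q ∈ P
  rw [mul_smul]
  exact (show c • (h • q) = c • m from hcm) ▸ P.smul_mem c hm

end Groth.Agent.CosecExt
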